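import Mathlib.AlgebraicGeometry.IdealSheaf.Subscheme
import Mathlib.AlgebraicGeometry.Morphisms.Flat
import Mathlib.RingTheory.RingHom.Flat
import Mathlib.RingTheory.Ideal.Pure
import Mathlib.AlgebraicGeometry.Morphisms.ClosedImmersion
import Mathlib.AlgebraicGeometry.Morphisms.UniversallyOpen
import Groth.Agent.PureIdeal.Basic

/-!
Closed subschemes with flat inclusion correspond to closed subsets stable under generalization.
-/

set_option autoImplicit false
set_option linter.style.haveILetI false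

universe u

open CategoryTheory AlgebraicGeometry TopologicalSpace Opposite

namespace Groth.Agent.FlatClosed

section Ring

variable {R : Type u} [CommRing R]

theorem mem_iff_of_pure (J : Ideal R) [J.Pure] (x : R) :
    x ∈ J ↔ ∀ p ∈ PrimeSpectrum.zeroLocus (J : Set R), ∃ s, s ∉ p.asIdeal ∧ s * x = 0 := by
  refine ⟨fun hx p hp => ?_, fun h => ?_⟩
  · obtain ⟨y, hy, hxy⟩ := Ideal.exists_eq_mul_of_pure hx
    refine ⟨1 - y, fun h => p.isPrime.one_notMem (by simpa using p.asIdeal.add_mem h (hp hy)), ?_⟩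
    rw [mul_comm, mul_sub, mul_one, ← hxy, sub_self]
  · have htop : Submodule.colon (⊥ : Submodule R R) {x} ⊔ J = ⊤ := by
      by_contra hne
      obtain ⟨m, hm, hle⟩ := Ideal.exists_le_maximal _ hne
      obtain ⟨s, hs, hsx⟩ := h ⟨m, hm.isPrime⟩ (le_sup_right.trans hle : J ≤ m)
      exact hs (hle (Submodule.mem_sup_left (Submodule.mem_colon_singleton.mpr
        ((Submodule.mem_bot R).mpr hsx))))
    obtain ⟨a, ha, y, hy, hay⟩ := Submodule.mem_sup.mp (htop ▸ Submodule.mem_top : (1 : R) ∈ _)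
    have hax : a * x = 0 := (Submodule.mem_bot R).mp (Submodule.mem_colon_singleton.mp ha)
    have : x = y * x := by
      calc x = (a + y) * x := by rw [hay, one_mul]
        _ = y * x := by rw [add_mul, hax, zero_add]
    rw [this]
    exact J.mul_mem_right x hy

theorem pure_of_forall_exists {I : Ideal R} (h : ∀ x ∈ I, ∃ y ∈ I, x = x * y) : I.Pure :=
  Ideal.Pure.of_inf_eq_mul I fun J _ => le_antisymm (fun x hx => by
    obtain ⟨y, hy, hxy⟩ := h x hx.1
    have := Ideal.mul_mem_mul hy hx.2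
    rwa [mul_comm y x, ← hxy] at this) Ideal.mul_le_inf

theorem pure_map {S : Type u} [CommRing S] (φ : R →+* S) (I : Ideal R) [I.Pure] :
    (I.map φ).Pure := by
  refine pure_of_forall_exists fun x hx => ?_
  induction hx using Submodule.span_induction with
  | mem z hz =>
    obtain ⟨a, ha, rfl⟩ := hz
    obtain ⟨y, hy, hay⟩ := Ideal.exists_eq_mul_of_pure ha
    exact ⟨φ y, Ideal.mem_map_of_mem φ hy, by rw [← map_mul, ← hay]⟩
  | zero => exact ⟨0, zero_mem _, by simp⟩
  | add z w _ _ hz hw =>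
    obtain ⟨y, hy, hzy⟩ := hz
    obtain ⟨v, hv, hwv⟩ := hw
    refine ⟨y + v - y * v, sub_mem (add_mem hy hv) (Ideal.mul_mem_left _ _ hv), ?_⟩
    linear_combination (1 - v) * hzy + (1 - y) * hwv
  | smul c z _ hz =>
    obtain ⟨y, hy, hzy⟩ := hz
    exact ⟨y, hy, by rw [smul_eq_mul, mul_assoc, ← hzy]⟩

theorem zeroLocus_map {S : Type u} [CommRing S] (φ : R →+* S) (I : Ideal R) :
    PrimeSpectrum.zeroLocus (I.map φ : Set S) =
      PrimeSpectrum.comap φ ⁻¹' PrimeSpectrum.zeroLocus (I : Set R) := by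
  rw [Ideal.map, PrimeSpectrum.zeroLocus_span, ← PrimeSpectrum.preimage_comap_zeroLocus]

theorem flat_iff_pure_ker {A B : CommRingCat.{u}} (φ : A ⟶ B) (hφ : Function.Surjective φ) :
    φ.hom.Flat ↔ (RingHom.ker φ.hom).Pure := by
  have hmk : (Ideal.Quotient.mk (RingHom.ker φ.hom)).Flat ↔ (RingHom.ker φ.hom).Pure :=
    RingHom.flat_algebraMap_iff
  have hcomp : (RingHom.quotientKerEquivOfSurjective hφ).toRingHom.comp
      (Ideal.Quotient.mk (RingHom.ker φ.hom)) = φ.hom :=
    RingHom.ext fun x => RingHom.quotientKerEquivOfSurjective_apply_mk hφ x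
  rw [← hmk]
  refine ⟨fun h => ?_, fun h => ?_⟩
  · have : (Ideal.Quotient.mk (RingHom.ker φ.hom)) =
        (RingHom.quotientKerEquivOfSurjective hφ).symm.toRingHom.comp φ.hom := by
      refine RingHom.ext fun x => ?_
      show _ = (RingHom.quotientKerEquivOfSurjective hφ).symm (φ.hom x)
      rw [← RingHom.quotientKerEquivOfSurjective_apply_mk hφ x, RingEquiv.symm_apply_apply]
    rw [this]
    exact RingHom.Flat.respectsIso.1 _ _ h
  · rw [← hcomp]
    exact RingHom.Flat.respectsIso.1 _ _ h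

end Ring

variable {X : Scheme.{u}}

/-- The sections with zero germ at every point of `Z`. -/
noncomputable def vanishing (Z : Set X) (U : X.affineOpens) : Ideal Γ(X, U) :=
  ⨅ (p : X) (hp : p ∈ U.1) (_ : p ∈ Z), RingHom.ker (X.presheaf.germ U.1 p hp).hom

theorem mem_vanishing {Z : Set X} {U : X.affineOpens} {x : Γ(X, U)} :
    x ∈ vanishing Z U ↔ ∀ (p : X) (hp : p ∈ U.1), p ∈ Z → X.presheaf.germ U.1 p hp x = 0 := by
  simp [vanishing, Submodule.mem_iInf]

theorem germ_eq_zero_iff {U : X.Opens} (hU : IsAffineOpen U) {p : X} (hp : p ∈ U) (x : Γ(X, U)) :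
    X.presheaf.germ U p hp x = 0 ↔ ∃ s, s ∉ (hU.primeIdealOf ⟨p, hp⟩).asIdeal ∧ s * x = 0 := by
  letI := X.presheaf.algebra_section_stalk ⟨p, hp⟩
  haveI := hU.isLocalization_stalk ⟨p, hp⟩
  show algebraMap Γ(X, U) (X.presheaf.stalk p) x = 0 ↔ _
  rw [IsLocalization.map_eq_zero_iff (hU.primeIdealOf ⟨p, hp⟩).asIdeal.primeCompl]
  exact ⟨fun ⟨⟨s, hs⟩, h⟩ => ⟨s, hs, h⟩, fun ⟨s, hs, h⟩ => ⟨⟨s, hs⟩, h⟩⟩

theorem eq_vanishing {Z : Set X} {U : X.affineOpens} (J : Ideal Γ(X, U)) [J.Pure]
    (h : PrimeSpectrum.zeroLocus (J : Set Γ(X, U)) = U.2.fromSpec ⁻¹' Z) :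
    J = vanishing Z U := by
  ext x
  rw [mem_iff_of_pure, mem_vanishing]
  constructor
  · intro H p hp hpZ
    rw [germ_eq_zero_iff U.2]
    refine H _ ?_
    rw [h]
    show U.2.fromSpec (U.2.primeIdealOf ⟨p, hp⟩) ∈ Z
    rwa [U.2.fromSpec_primeIdealOf ⟨p, hp⟩]
  · intro H q hq
    have hy : U.2.fromSpec q ∈ U.1 := U.2.range_fromSpec.le ⟨q, rfl⟩
    have hp : U.2.primeIdealOf ⟨U.2.fromSpec q, hy⟩ = q := by
      apply U.2.isOpenImmersion_fromSpec.base_open.injective
      exact U.2.fromSpec_primeIdealOf ⟨_, hy⟩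
    rw [← hp]
    exact (germ_eq_zero_iff U.2 hy x).mp (H _ hy (by rw [h] at hq; exact hq))

section Stable

variable {Z : Set X} (hc : IsClosed Z) (hg : StableUnderGeneralization Z)
include hc hg

theorem vanishing_spec (U : X.affineOpens) : (vanishing Z U).Pure ∧
    PrimeSpectrum.zeroLocus (vanishing Z U : Set Γ(X, U)) = U.2.fromSpec ⁻¹' Z := by
  have hcont : Continuous (U.2.fromSpec : _ → X) := U.2.fromSpec.continuous
  obtain ⟨J, hJ, hJZ⟩ := PureIdeal.exists_pure_zeroLocus_eq (U.2.fromSpec ⁻¹' Z)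
    (hc.preimage hcont) (hg.preimage hcont)
  haveI := hJ
  rw [← eq_vanishing J hJZ]
  exact ⟨hJ, hJZ⟩

/-- The ideal sheaf of the flat closed subscheme with support `Z`. -/
noncomputable def idealSheaf : X.IdealSheafData :=
  Scheme.IdealSheafData.mkOfMemSupportIff (vanishing Z)
    (fun U f => by
      haveI := (vanishing_spec hc hg U).1
      haveI := pure_map (X.presheaf.map (homOfLE <| X.basicOpen_le f).op).hom (vanishing Z U)
      refine @eq_vanishing _ Z (X.affineBasicOpen f) _ this ?_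
      refine (zeroLocus_map _ _).trans ?_
      have := U.2.map_fromSpec (U.2.basicOpen f) (homOfLE <| X.basicOpen_le f).op
      rw [(vanishing_spec hc hg U).2]
      ext q
      exact iff_of_eq (congrArg (· ∈ Z) (congrArg (fun g : Spec Γ(X, X.basicOpen f) ⟶ X => g q) this)))
    Z
    (fun U x hx => by
      have h := U.2.fromSpec_preimage_zeroLocus (vanishing Z U : Set Γ(X, U))
      rw [(vanishing_spec hc hg U).2] at h
      have hx' : U.2.fromSpec (U.2.primeIdealOf ⟨x, hx⟩) = x := U.2.fromSpec_primeIdealOf ⟨x, hx⟩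
      have h2 : U.2.fromSpec (U.2.primeIdealOf ⟨x, hx⟩) ∈ X.zeroLocus (vanishing Z U : Set Γ(X, U)) ↔
          U.2.fromSpec (U.2.primeIdealOf ⟨x, hx⟩) ∈ Z := Set.ext_iff.mp h _
      rw [hx'] at h2
      exact h2.symm)

theorem idealSheaf_ideal (U : X.affineOpens) :
    (idealSheaf hc hg).ideal U = vanishing Z U := rfl

theorem coe_support_idealSheaf : ((idealSheaf hc hg).support : Set X) = Z := rfl

end Stable

variable (I : X.IdealSheafData)

theorem flat_subschemeι_iff : Flat I.subschemeι ↔ ∀ U, (I.ideal U).Pure := by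
  refine ⟨fun h U => ?_, fun h => ?_⟩
  · have h2 := I.subschemeι.flat_appLE U.2 (U.2.preimage I.subschemeι) le_rfl
    rw [← Scheme.Hom.app_eq_appLE, flat_iff_pure_ker _ (I.subschemeι_app_surjective U),
      I.ker_subschemeι_app U] at h2
    exact h2
  · rw [HasRingHomProperty.iff_exists_appLE (P := @Flat)
      (RingHom.Flat.stableUnderComposition.stableUnderCompositionWithLocalizationAway
        RingHom.Flat.holdsForLocalizationAway).1]
    intro y
    obtain ⟨_, ⟨U, hU, rfl⟩, hyU, -⟩ :=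
      X.isBasis_affineOpens.exists_subset_of_mem_open (Set.mem_univ (I.subschemeι y)) isOpen_univ
    refine ⟨⟨U, hU⟩, ⟨_, hU.preimage I.subschemeι⟩, hyU, le_rfl, ?_⟩
    rw [← Scheme.Hom.app_eq_appLE, flat_iff_pure_ker _ (I.subschemeι_app_surjective ⟨U, hU⟩),
      I.ker_subschemeι_app ⟨U, hU⟩]
    exact h _

theorem ideal_eq_vanishing [Flat I.subschemeι] (U : X.affineOpens) :
    I.ideal U = vanishing (I.support : Set X) U := by
  haveI := (flat_subschemeι_iff I).mp ‹_› U
  refine eq_vanishing _ ?_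
  rw [← U.2.fromSpec_preimage_zeroLocus]
  ext q
  simp only [Set.mem_preimage, SetLike.mem_coe]
  exact (I.mem_support_iff_of_mem (U := U) (U.2.range_fromSpec.le ⟨q, rfl⟩)).symm

theorem stableUnderGeneralization_support [Flat I.subschemeι] :
    StableUnderGeneralization (I.support : Set X) := by
  rw [← I.range_subschemeι]
  exact (Flat.generalizingMap I.subschemeι).stableUnderGeneralization_range

theorem exists_fac [Flat I.subschemeι] {Y : Scheme.{u}} (g : Y ⟶ X)
    (hg : Set.range g.base ⊆ (I.support : Set X)) : ∃ g' : Y ⟶ I.subscheme, g' ≫ I.subschemeι = g := by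
  have hle : I ≤ g.ker := Scheme.IdealSheafData.le_ofIdeals_iff.mpr fun U x hx => by
    rw [ideal_eq_vanishing, mem_vanishing] at hx
    show g.app U.1 x = 0
    refine TopCat.Presheaf.section_ext Y.sheaf _ _ _ fun y hy => ?_
    show Y.presheaf.germ _ y hy (g.app U.1 x) = Y.presheaf.germ _ y hy 0
    rw [← Scheme.Hom.germ_stalkMap_apply g U.1 y hy, hx (g y) hy (hg ⟨y, rfl⟩), map_zero, map_zero]
  exact ⟨g.toImage ≫ Scheme.IdealSheafData.inclusion hle, by
    rw [Category.assoc, Scheme.IdealSheafData.inclusion_subschemeι, Scheme.Hom.toImage_imageι]⟩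

end Groth.Agent.FlatClosed
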