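import Groth.Agent.Props.QRank
import Groth.Agent.PinchLib.Modules
import Groth.Agent.PureIdeal.Basic
import Groth.Agent.FlatClosed.Basic
import Groth.Agent.CycLib.ModStalk
import Groth.Agent.HomShEval.Reflexive
import Groth.Prelude.Def_FlatMod2

/-!
Ranks of flat quasi-coherent modules of finite type.
-/

set_option autoImplicit false
set_option linter.style.haveILetI false

universe u

open CategoryTheory Limits AlgebraicGeometry TopologicalSpace Opposite

namespace Groth.Agent.FlatClosed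

open Groth.Agent.Props.QStalk Groth.Agent.Props.QRank Groth.Agent.PullStalk.Sky Groth.Agent.QCoh

variable {X : Scheme.{u}} (M : X.Modules) [M.IsQuasicoherent]

theorem free_stalk (hfl : FlatMod.IsFlat M) {U : X.Opens} (hU : IsAffineOpen U) {x : X} (hx : x ∈ U)
    [Module.Finite Γ(X, U) Γ(M, U)] :
    Module.Free (X.presheaf.stalk x) (M.presheaf.stalk x) := by
  haveI := Props.QProj.finite_stalk M hU hx
  haveI : Module.Flat (X.presheaf.stalk x) (M.presheaf.stalk x) := hfl x
  exact Module.free_of_flat_of_isLocalRing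

theorem fibreRank_eq_rankAtStalk (hfl : FlatMod.IsFlat M) {U : X.Opens} (hU : IsAffineOpen U)
    {x : X} (hx : x ∈ U) [Module.Finite Γ(X, U) Γ(M, U)] :
    fibreRank M x = Module.rankAtStalk (R := Γ(X, U)) Γ(M, U) (hU.primeIdealOf ⟨x, hx⟩) := by
  haveI := free_stalk M hfl hU hx
  rw [fibreRank_eq_of_free]
  haveI : Module.Flat Γ(X, U) Γ(M, U) := PinchLib.flat_sections hfl hU
  let _ := moduleSections M hx
  let _ := X.presheaf.algebra_section_stalk ⟨x, hx⟩
  haveI : IsScalarTower Γ(X, U) (X.presheaf.stalk x) (M.presheaf.stalk x) :=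
    IsScalarTower.of_algebraMap_smul fun _ _ ↦ rfl
  have hL := isLocalizedModule_germLin M hx hU
  haveI hA : IsLocalization.AtPrime (X.presheaf.stalk x) (hU.primeIdealOf ⟨x, hx⟩).asIdeal :=
    hU.isLocalization_stalk ⟨x, hx⟩
  have hbc : IsBaseChange (X.presheaf.stalk x) (germLin M hx) :=
    IsLocalizedModule.isBaseChange (hU.primeIdealOf ⟨x, hx⟩).asIdeal.primeCompl _ _
  haveI := Props.QProj.finite_stalk M hU hx
  have h := Module.rankAtStalk_isBaseChange hbc (IsLocalRing.closedPoint (X.presheaf.stalk x))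
  rw [Module.rankAtStalk_eq_finrank_of_free, Pi.natCast_apply] at h
  refine Eq.trans (by simpa using h) (congrArg (Module.rankAtStalk Γ(M, U)) (PrimeSpectrum.ext ?_))
  exact IsLocalization.AtPrime.comap_maximalIdeal (X.presheaf.stalk x) (hU.primeIdealOf ⟨x, hx⟩).asIdeal

variable [hft : SheafOfModules.IsFiniteType.{u} M]
include hft

theorem isOpen_fibreRank_le (hfl : FlatMod.IsFlat M) (n : ℕ) : IsOpen {x : X | fibreRank M x ≤ n} := by
  rw [isOpen_iff_forall_mem_open]
  intro x hx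
  obtain ⟨_, ⟨U, hU, rfl⟩, hxU, -⟩ :=
    X.isBasis_affineOpens.exists_subset_of_mem_open (Set.mem_univ x) isOpen_univ
  haveI := finite_sections_of_isFiniteType M hU
  obtain ⟨g, hxg, -, m, hm⟩ := exists_generators M hU hxU (O := ⊤) trivial
  refine ⟨X.basicOpen g, fun y hy => show fibreRank M y ≤ n from le_trans ?_ hx, (X.basicOpen g).2, hxg⟩
  haveI := free_stalk M hfl hU (X.basicOpen_le g hy)
  rw [fibreRank_eq_of_free]
  have hspan := span_germ_eq_top M (hU.basicOpen g) hm hy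
  have := finrank_range_le_card (R := X.presheaf.stalk y)
    (fun i => germM M (X.basicOpen g) y hy (m i))
  rw [Set.finrank, hspan, finrank_top, Fintype.card_fin] at this
  exact this

theorem fibreRank_eq_of_specializes (hfl : FlatMod.IsFlat M) {x y : X} (h : y ⤳ x) :
    fibreRank M y = fibreRank M x := by
  obtain ⟨_, ⟨U, hU, rfl⟩, hxU, -⟩ :=
    X.isBasis_affineOpens.exists_subset_of_mem_open (Set.mem_univ x) isOpen_univ
  haveI := finite_sections_of_isFiniteType M hU
  have hyU : y ∈ U := h.mem_open U.2 hxU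
  haveI : Module.Flat Γ(X, U) Γ(M, U) := PinchLib.flat_sections hfl hU
  rw [fibreRank_eq_rankAtStalk M hfl hU hyU, fibreRank_eq_rankAtStalk M hfl hU hxU]
  refine Module.rankAtStalk_eq_of_le_of_finite_of_flat _
    ((PrimeSpectrum.le_iff_specializes _ _).mpr ?_)
  refine hU.fromSpec.isOpenEmbedding.isInducing.specializes_iff.mp ?_
  rw [hU.fromSpec_primeIdealOf ⟨y, hyU⟩, hU.fromSpec_primeIdealOf ⟨x, hxU⟩]
  exact h

theorem isFinLocFree_of_stable_open (hfl : FlatMod.IsFlat M)
    (h : ∀ Z : Set X, IsClosed Z → StableUnderGeneralization Z → IsOpen Z) :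
    FlatMod.IsFinLocFree M := by
  intro x
  set n := fibreRank M x
  have hge : IsOpen {y : X | n ≤ fibreRank M y} := by
    refine h _ ?_ fun a b hba ha => by simpa [fibreRank_eq_of_specializes M hfl hba] using ha
    rcases Nat.eq_zero_or_pos n with hn | hn
    · simp [hn]
    · rw [← isOpen_compl_iff]
      convert isOpen_fibreRank_le M hfl (n - 1) using 1
      ext y
      simp only [Set.mem_compl_iff, Set.mem_setOf_eq]
      omega
  obtain ⟨_, ⟨U, hU, rfl⟩, hxU, -⟩ :=
    X.isBasis_affineOpens.exists_subset_of_mem_open (Set.mem_univ x) isOpen_univ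
  haveI := finite_sections_of_isFiniteType M hU
  obtain ⟨g, hxg, hgO, m, hm⟩ := exists_generators M hU hxU
    (O := ⟨_, hge.inter (isOpen_fibreRank_le M hfl n)⟩) ⟨le_refl n, le_refl n⟩
  haveI := finite_sections_of_isFiniteType M (hU.basicOpen g)
  have hfree : ∀ y ∈ X.basicOpen g, Module.Free (X.presheaf.stalk y) (M.presheaf.stalk y) ∧
      Module.finrank (X.presheaf.stalk y) (M.presheaf.stalk y) = n := fun y hy => by
    haveI := free_stalk M hfl (hU.basicOpen g) hy
    refine ⟨inferInstance, ?_⟩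
    rw [← fibreRank_eq_of_free]
    exact le_antisymm (hgO hy).2 (hgO hy).1
  obtain ⟨b⟩ := basis_of_free_stalks M (hU.basicOpen g) m hm hfree
  obtain ⟨k, hk⟩ := Props.QProj.nonempty_restrict_iso_free M (hU.basicOpen g) b
  exact ⟨X.basicOpen g, k, hxg, hk⟩

omit hft

theorem isOpen_of_forall_finLocFree
    (h : ∀ F : X.Modules, Coh.IsQCoh F → CohB1.IsFT F → FlatMod.IsFlat F → FlatMod.IsFinLocFree F)
    {Z : Set X} (hc : IsClosed Z) (hg : StableUnderGeneralization Z) : IsOpen Z := by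
  let I := idealSheaf hc hg
  let F := (Coh.push I.subschemeι).obj (Coh.structureModule I.subscheme)
  haveI := WeakAssSch.isQuasicoherent_unit I.subscheme
  have hF : Coh.IsCoh F := CycLib.isCoh_push _ I.subschemeι (HomShEval.Reflexive.isCoh_structureModule I.subscheme)
  haveI := hF.1
  have hquot : ∀ U : X.affineOpens,
      Nonempty ((Γ(X, U) ⧸ I.ideal U) ≃ₗ[Γ(X, U)] Γ(F, U.1)) := by
    intro U
    let one : Γ(F, U.1) := (1 : Γ(I.subscheme, I.subschemeι ⁻¹ᵁ U.1))
    let φ : Γ(X, U) →ₗ[Γ(X, U)] Γ(F, U.1) := LinearMap.toSpanSingleton _ _ one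
    have hφ : ∀ a, φ a = I.subschemeι.app U.1 a := fun a =>
      show (I.subschemeι.app U.1 a) * (1 : Γ(I.subscheme, I.subschemeι ⁻¹ᵁ U.1)) = _ from mul_one _
    have hsurj : Function.Surjective φ := fun b => by
      obtain ⟨a, ha⟩ := I.subschemeι_app_surjective U b
      exact ⟨a, (hφ a).trans ha⟩
    have hker : LinearMap.ker φ = I.ideal U := by
      rw [← I.ker_subschemeι_app U]
      ext a
      rw [LinearMap.mem_ker, hφ, RingHom.mem_ker]
      rfl
    exact ⟨(Submodule.quotEquivOfEq _ _ hker.symm).trans (φ.quotKerEquivOfSurjective hsurj)⟩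
  have hfl : FlatMod.IsFlat F := by
    intro x
    obtain ⟨_, ⟨U, hU, rfl⟩, hxU, -⟩ :=
      X.isBasis_affineOpens.exists_subset_of_mem_open (Set.mem_univ x) isOpen_univ
    obtain ⟨e⟩ := hquot ⟨U, hU⟩
    haveI : (I.ideal ⟨U, hU⟩).Pure := (vanishing_spec hc hg ⟨U, hU⟩).1
    haveI : Module.Flat Γ(X, U) Γ(F, U) := Module.Flat.of_linearEquiv e.symm
    exact PinchLib.isFlatAt_of_flat_sections hU hxU
  have hlf := h F hF.1 hF.2 hfl
  rw [isOpen_iff_forall_mem_open]
  intro x hx
  obtain ⟨_, ⟨U, hU, rfl⟩, hxU, -⟩ :=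
    X.isBasis_affineOpens.exists_subset_of_mem_open (Set.mem_univ x) isOpen_univ
  obtain ⟨e⟩ := hquot ⟨U, hU⟩
  haveI : Module.Projective Γ(X, U) Γ(F, U) := Props.QProj.projective_sections F hlf hU
  have hproj : Module.Projective Γ(X, U) (Γ(X, U) ⧸ I.ideal ⟨U, hU⟩) :=
    Module.Projective.of_equiv e.symm
  have h32 : Module.Projective Γ(X, U) (Γ(X, U) ⧸ I.ideal ⟨U, hU⟩) ↔
      (I.ideal ⟨U, hU⟩).Pure ∧
        IsOpen (PrimeSpectrum.zeroLocus (I.ideal ⟨U, hU⟩ : Set Γ(X, U))) :=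
    (PureIdeal.pure_fg_tfae (I.ideal ⟨U, hU⟩)).out 3 2
  have hopen := (h32.mp hproj).2
  refine ⟨hU.fromSpec '' PrimeSpectrum.zeroLocus (I.ideal ⟨U, hU⟩ : Set Γ(X, U)), ?_,
    hU.fromSpec.isOpenEmbedding.isOpenMap _ hopen, ?_⟩
  · rintro _ ⟨q, hq, rfl⟩
    rw [idealSheaf_ideal, (vanishing_spec hc hg ⟨U, hU⟩).2] at hq
    exact hq
  · refine ⟨hU.primeIdealOf ⟨x, hxU⟩, ?_, hU.fromSpec_primeIdealOf ⟨x, hxU⟩⟩
    rw [idealSheaf_ideal, (vanishing_spec hc hg ⟨U, hU⟩).2]
    show hU.fromSpec (hU.primeIdealOf ⟨x, hxU⟩) ∈ Z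
    rwa [hU.fromSpec_primeIdealOf ⟨x, hxU⟩]

end Groth.Agent.FlatClosed
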